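import Groth.Agent.PicThick.Bridge

/-!
# Lifting invertible modules along a square-zero thickening

If `H²(i^* I) = 0` invertible modules lift along the closed immersion `i` of a square-zero ideal `I`
of a separated scheme (`exists_lift`); if `H¹(i^* I) = 0` lifts are unique (`nonempty_iso_of_lift`).
-/

set_option autoImplicit false
set_option linter.style.haveILetI false
set_option backward.isDefEq.respectTransparency false
set_option backward.isDefEq.respectTransparency.types false

universe u

open CategoryTheory CategoryTheory.Limits AlgebraicGeometry Opposite TopologicalSpace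

noncomputable section

namespace Groth.Agent.PicThick

open OmegaSh Groth.Agent.Omega.Stalks Groth.Agent.IdealSh.IdealMod
open Groth.Agent.QCoh Groth.Agent.Props.GenLocus Groth.Agent.Props.GenTensor

variable {X : Scheme.{u}}

theorem one_add_mul_one_add {A : Type*} [CommRing A] {a b : A} (h : a * b = 0) :
    (1 + a) * (1 + b) = 1 + (a + b) := by linear_combination h

theorem isUnit_of_gens {M : X.Modules} {U₁ U₂ : X.Opens} {e₁ : Γ(M, U₁)} {e₂ : Γ(M, U₂)}
    (he₁ : IsGen M U₁ e₁) (he₂ : IsGen M U₂ e₂) {V : X.Opens} (h₁ : V ≤ U₁) (h₂ : V ≤ U₂)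
    {g : Γ(X, V)} (hg : res M h₂ e₂ = g • res M h₁ e₁) : IsUnit g := by
  obtain ⟨g', hg', -⟩ := he₂.exists_eq h₂ (res M h₁ e₁)
  refine IsUnit.of_mul_eq_one_right g' (he₁.injective h₁ ?_)
  rw [one_smul, mul_smul, ← hg, ← hg']

variable (I : X.IdealSheafData)

lemma app_idealSect_res {U V : X.Opens} (h : V ≤ U) (s : Γ(ClSub.idealMod I, U)) :
    idealSect I V (CohAff.res (X := X.toPresheafedSpace.carrier) (ClSub.idealMod I).presheaf h s) =
      rres h (idealSect I U s) :=
  idealSect_map I (homOfLE h) s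

variable [X.IsSeparated] (hI : I ^ 2 = ⊥)
include hI

/-- Invertible modules lift when `H²` of the ideal vanishes. -/
theorem exists_lift (h2 : Subsingleton (Coh.HH I.subscheme (conormal I) 2))
    (L₀ : I.subscheme.Modules) (hL₀ : PicF.IsInvertible L₀) :
    ∃ L : X.Modules, PicF.IsInvertible L ∧
      Nonempty ((Scheme.Modules.pullback I.subschemeι).obj L ≅ L₀) := by
  haveI := surjective_subschemeι I hI
  have hsq := sqZero_subschemeι I hI
  let i := I.subschemeι
  have hloc : ∀ x : X, ∃ (U : X.Opens) (e : Γ(L₀, i ⁻¹ᵁ U)),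
      IsAffineOpen U ∧ x ∈ U ∧ IsGen L₀ (i ⁻¹ᵁ U) e := by
    intro x
    obtain ⟨x', rfl⟩ := i.surjective x
    obtain ⟨W', e', hx', he'⟩ := exists_isGen hL₀ x'
    obtain ⟨W, hW, hWW'⟩ := i.isEmbedding.isInducing.isOpen_iff.mp W'.2
    have hxW : i x' ∈ W := by
      change x' ∈ ⇑i ⁻¹' W
      rw [hWW']
      exact hx'
    obtain ⟨_, ⟨U, hU, rfl⟩, hxU, hUsub⟩ := X.isBasis_affineOpens.exists_subset_of_mem_open hxW hW
    have hUW' : i ⁻¹ᵁ U ≤ W' := fun y hy => by
      have : y ∈ ⇑i ⁻¹' W := hUsub hy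
      rwa [hWW'] at this
    exact ⟨U, res L₀ hUW' e', hU, hxU, he'.restrict hUW'⟩
  choose U e hU hxU he using hloc
  have hpair : ∀ p q : X, ∃ a : Γ(X, U p ⊓ U q), IsUnit a ∧
      res L₀ (i.preimage_mono inf_le_right) (e q) =
        i.app (U p ⊓ U q) a • res L₀ (i.preimage_mono inf_le_left) (e p) := by
    intro p q
    obtain ⟨g, hg, -⟩ := (he p).exists_eq (i.preimage_mono (inf_le_left : U p ⊓ U q ≤ U p))
      (res L₀ (i.preimage_mono (inf_le_right : U p ⊓ U q ≤ U q)) (e q))
    obtain ⟨a, ha⟩ := i.app_surjective _ ((hU p).inf (hU q)) g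
    exact ⟨a, isUnit_of_app i (ha ▸ isUnit_of_gens (he p) (he q) _ _ hg), by rw [ha]; exact hg⟩
  choose a hau har using hpair
  have har' : ∀ (p q : X) (V : X.Opens) (hp : V ≤ U p) (hq : V ≤ U q),
      res L₀ (i.preimage_mono hq) (e q) =
        i.app V (rres (le_inf hp hq) (a p q)) • res L₀ (i.preimage_mono hp) (e p) := by
    intro p q V hp hq
    rw [← QCoh.res_res L₀ (i.preimage_mono (inf_le_right : U p ⊓ U q ≤ U q))
      (i.preimage_mono (le_inf hp hq)), har, res_smul, QCoh.res_res, app_rres]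
  have htriple : ∀ x : Fin 3 → X, ∃ s : Γ(ClSub.idealMod I,
      CohAff.inter (X := X.toPresheafedSpace.carrier) U x),
      rres (le_inf (CohAff.inter_le U x 0) (CohAff.inter_le U x 1)) (a (x 0) (x 1)) *
        rres (le_inf (CohAff.inter_le U x 1) (CohAff.inter_le U x 2)) (a (x 1) (x 2)) =
      rres (le_inf (CohAff.inter_le U x 0) (CohAff.inter_le U x 2)) (a (x 0) (x 2)) *
        (1 + idealSect I _ s) := by
    intro x
    let D := CohAff.inter (X := X.toPresheafedSpace.carrier) U x
    have h0 : D ≤ U (x 0) := CohAff.inter_le U x 0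
    have h1 : D ≤ U (x 1) := CohAff.inter_le U x 1
    have h2 : D ≤ U (x 2) := CohAff.inter_le U x 2
    obtain ⟨w, hw⟩ := (hau (x 0) (x 2)).map (rres (le_inf h0 h2)).hom
    let P := rres (le_inf h0 h1) (a (x 0) (x 1)) * rres (le_inf h1 h2) (a (x 1) (x 2))
    have happ : i.app D P = i.app D (rres (le_inf h0 h2) (a (x 0) (x 2))) := by
      refine (he (x 0)).injective (i.preimage_mono h0) ?_
      rw [← har' (x 0) (x 2) D h0 h2, har' (x 1) (x 2) D h1 h2, har' (x 0) (x 1) D h0 h1,
        smul_smul, map_mul, mul_comm]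
    obtain ⟨s, hs⟩ := exists_sect I D ((↑w⁻¹ : Γ(X, D)) * P - 1) (by
      rw [map_sub, map_mul, happ, ← hw, ← map_mul, w.inv_mul, sub_self])
    refine ⟨s, ?_⟩
    rw [hs, ← hw, add_sub_cancel, ← mul_assoc, w.mul_inv, one_mul]
  choose s hs using htriple
  have hcd : CohAff.cd (ClSub.idealMod I).presheaf U 2 s = 0 := by
    funext y
    refine idealSect_injective I _ ?_
    let D := CohAff.inter (X := X.toPresheafedSpace.carrier) U y
    let A : Fin 4 → Fin 4 → Γ(X, D) := fun j k =>
      rres (le_inf (CohAff.inter_le U y j) (CohAff.inter_le U y k)) (a (y j) (y k))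
    let C : Fin 4 → Γ(X, D) := fun j =>
      rres (CohAff.inter_comp_le U y j.succAbove) (idealSect I _ (s (y ∘ j.succAbove)))
    have hrel : ∀ j : Fin 4, A (j.succAbove 0) (j.succAbove 1) * A (j.succAbove 1) (j.succAbove 2) =
        A (j.succAbove 0) (j.succAbove 2) * (1 + C j) := by
      intro j
      have h := congrArg (rres (CohAff.inter_comp_le U y j.succAbove)) (hs (y ∘ j.succAbove))
      rw [map_mul, map_mul, map_add, map_one, rres_rres, rres_rres, rres_rres] at h
      exact h
    have hC : ∀ j k, C j * C k = 0 := fun j k => hsq D (isAffineOpen_inter U hU y) _ _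
      (by rw [app_rres, app_sect, map_zero]) (by rw [app_rres, app_sect, map_zero])
    have e0 : A 1 2 * A 2 3 = A 1 3 * (1 + C 0) := hrel 0
    have e1 : A 0 2 * A 2 3 = A 0 3 * (1 + C 1) := hrel 1
    have e2 : A 0 1 * A 1 3 = A 0 3 * (1 + C 2) := hrel 2
    have e3 : A 0 1 * A 1 2 = A 0 2 * (1 + C 3) := hrel 3
    have hu : IsUnit (A 0 3) := (hau _ _).map (rres _).hom
    have hmain : C 0 - C 1 + C 2 - C 3 = 0 := by
      refine hu.mul_right_eq_zero.mp ?_
      linear_combination -(A 0 1) * e0 + (1 + C 3) * e1 - (1 + C 0) * e2 + (A 2 3) * e3 -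
        A 0 3 * hC 2 0 + A 0 3 * hC 1 3
    rw [CohAff.cd_apply, Pi.zero_apply, map_zero, Fin.sum_univ_four, map_add, map_add, map_add,
      map_zsmul, map_zsmul, map_zsmul, map_zsmul, app_idealSect_res, app_idealSect_res,
      app_idealSect_res, app_idealSect_res]
    refine Eq.trans ?_ hmain
    simp only [C, Fin.val_zero, Fin.val_one, Fin.val_two, show ((3 : Fin 4) : ℕ) = 3 from rfl]
    ring
  obtain ⟨t, ht⟩ := exists_primitive I U hI hU (fun x _ => Opens.mem_iSup.2 ⟨x, hxU x⟩)
    (n := 1) h2 s hcd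
  have hle2 : ∀ p q : X, U p ⊓ U q ≤ CohAff.inter (X := X.toPresheafedSpace.carrier) U ![p, q] :=
    fun p q => CohAff.le_inter fun k => by
      fin_cases k
      · exact inf_le_left
      · exact inf_le_right
  let τ : ∀ p q : X, Γ(X, U p ⊓ U q) := fun p q => rres (hle2 p q) (idealSect I _ (t ![p, q]))
  have hτ : ∀ p q, i.app _ (τ p q) = 0 := fun p q => by
    show i.app _ (rres _ _) = 0
    rw [app_rres, app_sect, map_zero]
  let a' : ∀ p q : X, Γ(X, U p ⊓ U q) := fun p q => a p q * (1 - τ p q)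
  have ha'app : ∀ p q, i.app _ (a' p q) = i.app _ (a p q) := fun p q => by
    simp only [a', map_mul, map_sub, map_one, hτ, sub_zero, mul_one]
  have ha'u : ∀ p q, IsUnit (a' p q) := fun p q =>
    isUnit_of_app i (by rw [ha'app]; exact (hau p q).map _)
  have hcoc : ∀ (p q r : X) (V : X.Opens) (h₁ : V ≤ U p ⊓ U q) (h₂ : V ≤ U q ⊓ U r)
      (h₃ : V ≤ U p ⊓ U r), rres h₁ (a' p q) * rres h₂ (a' q r) = rres h₃ (a' p r) := by
    intro p q r V h₁ h₂ h₃
    let x : Fin 3 → X := ![p, q, r]
    let D := CohAff.inter (X := X.toPresheafedSpace.carrier) U x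
    have hVD : V ≤ D := CohAff.le_inter fun k => by
      fin_cases k
      · exact h₁.trans inf_le_left
      · exact h₁.trans inf_le_right
      · exact h₂.trans inf_le_right
    have h01 : D ≤ U p ⊓ U q := le_inf (CohAff.inter_le U x 0) (CohAff.inter_le U x 1)
    have h12 : D ≤ U q ⊓ U r := le_inf (CohAff.inter_le U x 1) (CohAff.inter_le U x 2)
    have h02 : D ≤ U p ⊓ U r := le_inf (CohAff.inter_le U x 0) (CohAff.inter_le U x 2)
    have key : rres h01 (a' p q) * rres h12 (a' q r) = rres h02 (a' p r) := by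
      have hT : ∀ (y y' : Fin 2 → X) (_ : y = y')
          (hy : D ≤ CohAff.inter (X := X.toPresheafedSpace.carrier) U y)
          (hy' : D ≤ CohAff.inter (X := X.toPresheafedSpace.carrier) U y'),
          rres hy (idealSect I _ (t y)) = rres hy' (idealSect I _ (t y')) := by
        rintro y _ rfl hy hy'
        rfl
      have hc := congrArg (idealSect I D) (congrFun ht x)
      rw [CohAff.cd_apply, Fin.sum_univ_three, map_add, map_add, map_zsmul, map_zsmul, map_zsmul,
        app_idealSect_res, app_idealSect_res, app_idealSect_res,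
        hT (x ∘ (0 : Fin 3).succAbove) ![q, r] (by funext k; fin_cases k <;> rfl) _ (h12.trans (hle2 q r)),
        hT (x ∘ (1 : Fin 3).succAbove) ![p, r] (by funext k; fin_cases k <;> rfl) _ (h02.trans (hle2 p r)),
        hT (x ∘ (2 : Fin 3).succAbove) ![p, q] (by funext k; fin_cases k <;> rfl) _ (h01.trans (hle2 p q))] at hc
      have hc' : idealSect I D (s x) = rres h12 (τ q r) - rres h02 (τ p r) + rres h01 (τ p q) := by
        rw [← hc]
        simp only [τ, rres_rres, Fin.val_zero, Fin.val_one, Fin.val_two]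
        ring
      have hz : ∀ {b c : Γ(X, D)}, i.app D b = 0 → i.app D c = 0 → b * c = 0 := fun hb hc =>
        hsq D (isAffineOpen_inter U hU x) _ _ hb hc
      have z01 : i.app D (rres h01 (τ p q)) = 0 := by rw [app_rres, hτ, map_zero]
      have z12 : i.app D (rres h12 (τ q r)) = 0 := by rw [app_rres, hτ, map_zero]
      have zs : i.app D (idealSect I D (s x)) = 0 := app_sect I D _
      have e : rres h01 (a p q) * rres h12 (a q r) = rres h02 (a p r) * (1 + idealSect I D (s x)) :=
        hs x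
      simp only [a', map_mul, map_sub, map_one]
      linear_combination (1 - rres h01 (τ p q)) * (1 - rres h12 (τ q r)) * e +
        rres h02 (a p r) * hc' +
        rres h02 (a p r) * (1 + idealSect I D (s x)) * hz z01 z12 -
        rres h02 (a p r) * (hz zs z01 + hz zs z12)
    have h := congrArg (rres hVD) key
    rwa [map_mul, rres_rres, rres_rres, rres_rres] at h
  let C : LineCoc.Cocycle X :=
    { ι := X
      W := U
      a := a'
      cover := fun x _ => Opens.mem_iSup.2 ⟨x, hxU x⟩
      self := fun p => by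
        have h := hcoc p p p (U p ⊓ U p) le_rfl le_rfl le_rfl
        rw [rres_self] at h
        exact (ha'u p p).mul_eq_left.mp h
      coc := hcoc }
  refine ⟨LineCoc.mod C, LineCoc.isInvertible C, ?_⟩
  let g : ∀ x, Γ((Scheme.Modules.pullback i).obj (LineCoc.mod C), i ⁻¹ᵁ U x) := fun x =>
    LFFrame.unitSec i (LineCoc.mod C) (U x) (LineCoc.gen C x)
  have hg : ∀ x, IsGen _ (i ⁻¹ᵁ U x) (g x) := fun x =>
    (isGen_iff_isFrame _).2 (((isGen_iff_isFrame _).1 (LineCoc.isGen_gen C x)).pullback i)
  obtain ⟨ψ, -⟩ := AmpleLib.exists_iso_of_gen (M := (Scheme.Modules.pullback i).obj (LineCoc.mod C))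
    (N := L₀) (fun x => i ⁻¹ᵁ U x)
    (fun z _ => Opens.mem_iSup.2 ⟨i z, hxU (i z)⟩) g hg e he (fun x y V hx hy u hu => by
      have hV : V ≤ i ⁻¹ᵁ (U x ⊓ U y) := fun z hz => ⟨hx hz, hy hz⟩
      have h1 : res _ (i.preimage_mono (inf_le_right : U x ⊓ U y ≤ U y)) (g y) =
          i.app (U x ⊓ U y) (a' x y) • res _ (i.preimage_mono (inf_le_left : U x ⊓ U y ≤ U x)) (g x) :=
        (LFFrame.unitSec_res i _ inf_le_right _).symm.trans <|
          (congrArg _ (LineCoc.res_gen_eq C x y)).trans <|
            (LFFrame.unitSec_smul i _ _ _ _).trans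
              (congrArg _ (LFFrame.unitSec_res i _ inf_le_left _))
      have h2 := congrArg (res _ hV) h1
      rw [QCoh.res_res, res_smul, QCoh.res_res] at h2
      rw [(hg x).injective hx (hu.symm.trans h2), ha'app]
      have h3 := congrArg (res L₀ hV) (har x y)
      rwa [QCoh.res_res, res_smul, QCoh.res_res] at h3)
  exact ⟨ψ⟩

/-- Lifts are unique when `H¹` of the ideal vanishes. -/
theorem nonempty_iso_of_lift (h1 : Subsingleton (Coh.HH I.subscheme (conormal I) 1))
    (L L' : X.Modules) (hL : PicF.IsInvertible L) (hL' : PicF.IsInvertible L')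
    (φ : (Scheme.Modules.pullback I.subschemeι).obj L ≅ (Scheme.Modules.pullback I.subschemeι).obj L') :
    Nonempty (L ≅ L') := by
  haveI := surjective_subschemeι I hI
  have hsq := sqZero_subschemeι I hI
  let i := I.subschemeι
  have hloc : ∀ x : X, ∃ (U : X.Opens) (e : Γ(L, U)) (e' : Γ(L', U)), IsAffineOpen U ∧ x ∈ U ∧
      IsGen L U e ∧ IsGen L' U e' ∧
      φ.hom.app (i ⁻¹ᵁ U) (LFFrame.unitSec i L U e) = LFFrame.unitSec i L' U e' := by
    intro x
    obtain ⟨U₁, e₁, hx₁, he₁⟩ := exists_isGen hL x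
    obtain ⟨U₂, e₂, hx₂, he₂⟩ := exists_isGen hL' x
    obtain ⟨_, ⟨U, hU, rfl⟩, hxU, hUsub⟩ := X.isBasis_affineOpens.exists_subset_of_mem_open
      (show x ∈ ((U₁ ⊓ U₂ : X.Opens) : Set X) from ⟨hx₁, hx₂⟩) (U₁ ⊓ U₂).2
    have he := he₁.restrict (show U ≤ U₁ from fun y hy => (hUsub hy).1)
    have he' := he₂.restrict (show U ≤ U₂ from fun y hy => (hUsub hy).2)
    set f := res L (show U ≤ U₁ from fun y hy => (hUsub hy).1) e₁
    set f' := res L' (show U ≤ U₂ from fun y hy => (hUsub hy).2) e₂
    have hη := (isGen_iff_isFrame _).2 (((isGen_iff_isFrame _).1 he).pullback i)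
    have hη' := (isGen_iff_isFrame _).2 (((isGen_iff_isFrame _).1 he').pullback i)
    obtain ⟨c, hc, -⟩ := hη'.exists_eq le_rfl (φ.hom.app (i ⁻¹ᵁ U) (LFFrame.unitSec i L U f))
    obtain ⟨d, hd, -⟩ := hη.exists_eq le_rfl (φ.inv.app (i ⁻¹ᵁ U) (LFFrame.unitSec i L' U f'))
    rw [res_self] at hc hd
    have hcu : IsUnit c := by
      have h1 := congrArg (φ.hom.app (i ⁻¹ᵁ U)) hd
      rw [Scheme.Modules.Hom.app_smul, hc, ← ConcreteCategory.comp_apply, ← Scheme.Modules.Hom.comp_app,
        Iso.inv_hom_id, smul_smul] at h1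
      refine IsUnit.of_mul_eq_one_right d (hη'.injective le_rfl ?_)
      rw [res_self, ← h1, one_smul]
      rfl
    obtain ⟨c₀, hc₀⟩ := i.app_surjective U hU c
    refine ⟨U, f, c₀ • f', hU, hxU, he, he'.smul_unit (isUnit_of_app i (hc₀ ▸ hcu)), ?_⟩
    rw [hc, LFFrame.unitSec_smul, hc₀]
  choose U e e' hU hxU he he' hφ using hloc
  have hpair : ∀ p q : X, ∃ (a : Γ(X, U p ⊓ U q)) (c : Γ(ClSub.idealMod I, U p ⊓ U q)), IsUnit a ∧
      res L inf_le_right (e q) = a • res L inf_le_left (e p) ∧
      res L' inf_le_right (e' q) = (a * (1 + idealSect I _ c)) • res L' inf_le_left (e' p) := by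
    intro p q
    obtain ⟨a, ha, -⟩ := (he p).exists_eq (inf_le_left : U p ⊓ U q ≤ U p) (res L inf_le_right (e q))
    obtain ⟨a', ha', -⟩ := (he' p).exists_eq (inf_le_left : U p ⊓ U q ≤ U p) (res L' inf_le_right (e' q))
    have hau := isUnit_of_gens (he p) (he q) _ _ ha
    obtain ⟨w, hw⟩ := hau
    have happ : i.app _ a' = i.app _ a := by
      have hη' := (isGen_iff_isFrame _).2 (((isGen_iff_isFrame _).1 (he' p)).pullback i)
      refine hη'.injective (i.preimage_mono inf_le_left) ?_
      have hS : ∀ (k : X) (h : U p ⊓ U q ≤ U k),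
          φ.hom.app (i ⁻¹ᵁ (U p ⊓ U q)) (LFFrame.unitSec i L _ (res L h (e k))) =
            LFFrame.unitSec i L' _ (res L' h (e' k)) := fun k h => by
        rw [show LFFrame.unitSec i L _ (res L h (e k)) = res _ (i.preimage_mono h)
          (LFFrame.unitSec i L (U k) (e k)) from LFFrame.unitSec_res i L h (e k), app_res, hφ]
        exact (LFFrame.unitSec_res i L' h (e' k)).symm
      have h2 := hS q inf_le_right
      rw [ha, ha', LFFrame.unitSec_smul, LFFrame.unitSec_smul, Scheme.Modules.Hom.app_smul,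
        hS p inf_le_left] at h2
      have h3 : LFFrame.unitSec i L' _ (res L' (inf_le_left : U p ⊓ U q ≤ U p) (e' p)) =
          res _ (i.preimage_mono inf_le_left) (LFFrame.unitSec i L' (U p) (e' p)) :=
        LFFrame.unitSec_res i L' _ _
      rw [h3] at h2
      exact h2.symm
    obtain ⟨c, hc⟩ := exists_sect I _ ((↑w⁻¹ : Γ(X, U p ⊓ U q)) * a' - 1) (by
      rw [map_sub, map_mul, happ, ← hw, ← map_mul, w.inv_mul, sub_self])
    refine ⟨a, c, hw ▸ w.isUnit, ha, ?_⟩
    rw [hc, add_sub_cancel, ← hw, ← mul_assoc, w.mul_inv, one_mul]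
    exact ha'
  choose a c hau hae hae' using hpair
  have hle2 : ∀ x : Fin 2 → X, CohAff.inter (X := X.toPresheafedSpace.carrier) U x ≤ U (x 0) ⊓ U (x 1) :=
    fun x => le_inf (CohAff.inter_le U x 0) (CohAff.inter_le U x 1)
  let s : CohAff.Cochain (X := X.toPresheafedSpace.carrier) (ClSub.idealMod I).presheaf U 1 :=
    fun x => CohAff.res (X := X.toPresheafedSpace.carrier) (ClSub.idealMod I).presheaf (hle2 x) (c (x 0) (x 1))
  have hcd : CohAff.cd (ClSub.idealMod I).presheaf U 1 s = 0 := by
    funext y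
    refine idealSect_injective I _ ?_
    let D := CohAff.inter (X := X.toPresheafedSpace.carrier) U y
    let hD : ∀ j k, D ≤ U (y j) ⊓ U (y k) := fun j k =>
      le_inf (CohAff.inter_le U y j) (CohAff.inter_le U y k)
    let A : Fin 3 → Fin 3 → Γ(X, D) := fun j k => rres (hD j k) (a (y j) (y k))
    let C : Fin 3 → Fin 3 → Γ(X, D) := fun j k => rres (hD j k) (idealSect I _ (c (y j) (y k)))
    have hA : A 0 1 * A 1 2 = A 0 2 := by
      refine (he (y 0)).injective (CohAff.inter_le U y 0) ?_
      have hr : ∀ j k, res L (CohAff.inter_le U y k) (e (y k)) =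
          A j k • res L (CohAff.inter_le U y j) (e (y j)) := fun j k => by
        have h := congrArg (res L (hD j k)) (hae (y j) (y k))
        rwa [QCoh.res_res, res_smul, QCoh.res_res] at h
      rw [← hr 0 2, hr 1 2, hr 0 1, smul_smul, mul_comm]
    have hA' : A 0 1 * (1 + C 0 1) * (A 1 2 * (1 + C 1 2)) = A 0 2 * (1 + C 0 2) := by
      refine (he' (y 0)).injective (CohAff.inter_le U y 0) ?_
      have hr : ∀ j k, res L' (CohAff.inter_le U y k) (e' (y k)) =
          (A j k * (1 + C j k)) • res L' (CohAff.inter_le U y j) (e' (y j)) := fun j k => by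
        have h := congrArg (res L' (hD j k)) (hae' (y j) (y k))
        rwa [QCoh.res_res, res_smul, QCoh.res_res, map_mul, map_add, map_one] at h
      rw [← hr 0 2, hr 1 2, hr 0 1, smul_smul, mul_comm]
    have hCz : C 0 1 * C 1 2 = 0 := hsq D (isAffineOpen_inter U hU y) _ _
      (by rw [app_rres, app_sect, map_zero]) (by rw [app_rres, app_sect, map_zero])
    have hmain : C 1 2 - C 0 2 + C 0 1 = 0 := by
      refine ((hau _ _).map (rres (hD 0 2)).hom).mul_right_eq_zero.mp ?_
      show A 0 2 * _ = 0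
      linear_combination hA' - (1 + C 0 1) * (1 + C 1 2) * hA - A 0 2 * hCz
    rw [CohAff.cd_apply, Pi.zero_apply, map_zero, Fin.sum_univ_three, map_add, map_add,
      map_zsmul, map_zsmul, map_zsmul, app_idealSect_res, app_idealSect_res, app_idealSect_res]
    simp only [s, app_idealSect_res, rres_rres]
    refine Eq.trans ?_ hmain
    simp only [Fin.val_zero, Fin.val_one, Fin.val_two, pow_zero, pow_one, neg_smul, one_smul,
      neg_one_sq, ← sub_eq_add_neg]
    rfl
  obtain ⟨t, ht⟩ := exists_primitive I U hI hU (fun x _ => Opens.mem_iSup.2 ⟨x, hxU x⟩)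
    (n := 0) h1 s hcd
  have hle1 : ∀ p : X, U p ≤ CohAff.inter (X := X.toPresheafedSpace.carrier) U (fun _ : Fin 1 => p) :=
    fun p => CohAff.le_inter fun _ => le_rfl
  let τ : ∀ p, Γ(X, U p) := fun p => rres (hle1 p) (idealSect I _ (t fun _ => p))
  have hτ : ∀ p, i.app _ (τ p) = 0 := fun p => by
    show i.app _ (rres _ _) = 0
    rw [app_rres, app_sect, map_zero]
  let f : ∀ p, Γ(L', U p) := fun p => (1 - τ p) • e' p
  have hf : ∀ p, IsGen L' (U p) (f p) := fun p => (he' p).smul_unit
    (isUnit_of_app i (by rw [map_sub, map_one, hτ, sub_zero]; exact isUnit_one))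
  obtain ⟨ψ, -⟩ := AmpleLib.exists_iso_of_gen (M := L) (N := L') U
    (fun x _ => Opens.mem_iSup.2 ⟨x, hxU x⟩) e he f hf (fun p q V hp hq u hu => by
      let D := U p ⊓ U q
      have hT : ∀ (y y' : Fin 1 → X) (_ : y = y')
          (hy : D ≤ CohAff.inter (X := X.toPresheafedSpace.carrier) U y)
          (hy' : D ≤ CohAff.inter (X := X.toPresheafedSpace.carrier) U y'),
          rres hy (idealSect I _ (t y)) = rres hy' (idealSect I _ (t y')) := by
        rintro y _ rfl hy hy'
        rfl
      have hDx : D ≤ CohAff.inter (X := X.toPresheafedSpace.carrier) U ![p, q] :=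
        CohAff.le_inter fun k => by
          fin_cases k
          · exact inf_le_left
          · exact inf_le_right
      have hc := congrArg (fun z => rres hDx (idealSect I _ z)) (congrFun ht ![p, q])
      simp only [s, CohAff.cd_zero_apply, map_sub, app_idealSect_res, rres_rres] at hc
      rw [hT (![p, q] ∘ (0 : Fin 2).succAbove) (fun _ => q) (by funext k; fin_cases k; rfl) _
          (inf_le_right.trans (hle1 q)),
        hT (![p, q] ∘ (1 : Fin 2).succAbove) (fun _ => p) (by funext k; fin_cases k; rfl) _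
          (inf_le_left.trans (hle1 p))] at hc
      have hc' : idealSect I D (c p q) = rres inf_le_right (τ q) - rres inf_le_left (τ p) := by
        simp only [τ, rres_rres]
        exact ((rres_self le_rfl _).symm.trans hc.symm)
      have hz : idealSect I D (c p q) * rres inf_le_right (τ q) = 0 :=
        hsq D ((hU p).inf (hU q)) _ _ (app_sect I D _) (by rw [app_rres, hτ, map_zero])
      have key : res L' inf_le_right (f q) = a p q • res L' inf_le_left (f p) := by
        simp only [f, res_smul, smul_smul, hae' p q]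
        congr 1
        simp only [map_sub, map_one]
        linear_combination a p q * hc' - a p q * hz
      have h1' := congrArg (res L (le_inf hp hq)) (hae p q)
      rw [QCoh.res_res, res_smul, QCoh.res_res] at h1'
      rw [(he p).injective hp (hu.symm.trans h1')]
      have h2 := congrArg (res L' (le_inf hp hq)) key
      exact (QCoh.res_res L' _ _ (f q)).symm.trans (h2.trans ((res_smul L' _ _ _).trans
        (congrArg _ (QCoh.res_res L' _ _ (f p))))))
  exact ⟨ψ⟩

end Groth.Agent.PicThick
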