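import Groth.Agent.PicThick.Root
import Groth.Agent.LimTop.PullSec
import Groth.Agent.CohAff.CechH
import Groth.Agent.CohAff.AffineCech
import Groth.Agent.AmpleLib.Ideal
import Groth.Agent.IdealSh.IdealMod

/-!
# Čech cochains of a square-zero ideal

For a square-zero ideal `I` on a separated scheme, vanishing of `H^(n+1)` of `i^* I` on the closed
subscheme makes every `(n+1)`-cocycle of `I` on an affine cover a coboundary (`exists_primitive`).
-/

set_option autoImplicit false
set_option linter.style.haveILetI false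
set_option backward.isDefEq.respectTransparency false
set_option backward.isDefEq.respectTransparency.types false

universe u

open CategoryTheory CategoryTheory.Limits AlgebraicGeometry Opposite TopologicalSpace
open scoped TensorProduct

noncomputable section

namespace Groth.Agent.PicThick

open OmegaSh Groth.Agent.Omega.Stalks Groth.Agent.IdealSh.IdealMod

variable {X : Scheme.{u}} (I : X.IdealSheafData)

theorem surjective_subschemeι (hI : I ^ 2 = ⊥) : Surjective I.subschemeι := by
  refine ⟨fun x => ?_⟩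
  have h : x ∈ Set.range I.subschemeι := by
    rw [Scheme.IdealSheafData.range_subschemeι, ← I.support_pow 2 (by omega), hI,
      Scheme.IdealSheafData.support_bot]
    trivial
  exact h

theorem sqZero_subschemeι (hI : I ^ 2 = ⊥) : SqZero I.subschemeι := by
  intro U hU a b ha hb
  have h := Ideal.mul_mem_mul ((mem_ideal_iff I ⟨U, hU⟩ a).mpr ha)
    ((mem_ideal_iff I ⟨U, hU⟩ b).mpr hb)
  have h2 : I.ideal ⟨U, hU⟩ * I.ideal ⟨U, hU⟩ = ⊥ := by
    have := congrArg (fun J : X.IdealSheafData => J.ideal ⟨U, hU⟩) hI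
    simpa [pow_two] using this
  rwa [h2, Ideal.mem_bot] at h

/-- The ideal restricted to the closed subscheme. -/
abbrev conormal : I.subscheme.Modules :=
  (Scheme.Modules.pullback I.subschemeι).obj (ClSub.idealMod I)

/-- Sections of `I` as sections of `i^* I`. -/
def θ (W : X.Opens) : Γ(ClSub.idealMod I, W) →+ Γ(conormal I, I.subschemeι ⁻¹ᵁ W) :=
  LimTop.unitSec I.subschemeι (ClSub.idealMod I) le_rfl

theorem θ_res {V W : X.Opens} (h : V ≤ W) (s : Γ(ClSub.idealMod I, W)) :
    θ I V (QCoh.res _ h s) = QCoh.res _ (I.subschemeι.preimage_mono h) (θ I W s) :=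
  (LimTop.unitSec_res _ _ h le_rfl s).trans (LimTop.res_unitSec _ _ le_rfl _ s).symm

theorem θ_bijective (hsq : SqZero I.subschemeι) {W : X.Opens} (hW : IsAffineOpen W) :
    Function.Bijective (θ I W) := by
  haveI : (ClSub.idealMod I).IsQuasicoherent := AmpleLib.isQCoh_idealMod I
  letI := (I.subschemeι.appLE W (I.subschemeι ⁻¹ᵁ W) le_rfl).hom.toAlgebra
  letI := LimTop.secModule I.subschemeι (ClSub.idealMod I) (le_rfl : I.subschemeι ⁻¹ᵁ W ≤ _)
  haveI : IsScalarTower Γ(X, W) Γ(I.subscheme, I.subschemeι ⁻¹ᵁ W)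
      Γ(conormal I, I.subschemeι ⁻¹ᵁ W) := IsScalarTower.of_algebraMap_smul fun _ _ => rfl
  have hbc := LimTop.isBaseChange_unitSec I.subschemeι (ClSub.idealMod I)
    (le_rfl : I.subschemeι ⁻¹ᵁ W ≤ _) hW (hW.preimage I.subschemeι)
  let A := Γ(X, W)
  let B := Γ(I.subscheme, I.subschemeι ⁻¹ᵁ W)
  let M := Γ(ClSub.idealMod I, W)
  have halg : ∀ a : A, algebraMap A B a = I.subschemeι.app W a := fun a => by
    change I.subschemeι.appLE W _ le_rfl a = _
    rw [Scheme.Hom.app_eq_appLE]
  have hsurj : Function.Surjective (Algebra.linearMap A B) := fun b => by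
    obtain ⟨a, ha⟩ := I.subschemeι.app_surjective W hW b
    exact ⟨a, (halg a).trans ha⟩
  constructor
  · have hker : LinearMap.ker (Algebra.linearMap A B) ≤ LinearMap.ker (LinearMap.lsmul A M) := by
      intro a ha
      rw [LinearMap.mem_ker] at ha ⊢
      refine LinearMap.ext fun s => idealSect_injective I W ?_
      rw [LinearMap.lsmul_apply, idealSect_smul, LinearMap.zero_apply, map_zero]
      exact hsq W hW a _ ((halg a).symm.trans ha) (app_sect I W s)
    let σ : B →ₗ[A] M →ₗ[A] M := (Submodule.liftQ _ (LinearMap.lsmul A M) hker).comp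
      (LinearMap.quotKerEquivOfSurjective _ hsurj).symm.toLinearMap
    have hσ : ∀ s : M, σ 1 s = s := fun s => by
      have h1 : Algebra.linearMap A B 1 = 1 := map_one (algebraMap A B)
      rw [← h1]
      simp only [σ, LinearMap.comp_apply, LinearEquiv.coe_coe,
        LinearMap.quotKerEquivOfSurjective_symm_apply, Submodule.liftQ_apply, LinearMap.lsmul_apply,
        one_smul]
    intro a b hab
    have key : ∀ s : M, TensorProduct.lift σ (hbc.equiv.symm (θ I W s)) = s := fun s => by
      rw [show θ I W s = LimTop.unitSecLin I.subschemeι (ClSub.idealMod I) le_rfl s from rfl,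
        hbc.equiv_symm_apply, TensorProduct.lift.tmul, hσ]
    rw [← key a, hab, key b]
  · intro y
    refine hbc.inductionOn y (fun y => ∃ s, θ I W s = y) ⟨0, map_zero _⟩ (fun s => ⟨s, rfl⟩)
      (fun b n => ?_) (fun y z => ?_)
    · rintro ⟨s, rfl⟩
      obtain ⟨a, rfl⟩ := hsurj b
      exact ⟨a • s, LimTop.unitSec_smul _ _ _ a s⟩
    · rintro ⟨s, rfl⟩ ⟨t, rfl⟩
      exact ⟨s + t, map_add _ _ _⟩

variable {κ : Type u} (U : κ → X.Opens)

theorem isAffineOpen_inter [X.IsSeparated] (hU : ∀ k, IsAffineOpen (U k)) :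
    ∀ {n : ℕ} (x : Fin (n + 1) → κ),
      IsAffineOpen (X := X) (CohAff.inter (X := X.toPresheafedSpace.carrier) U x) := by
  intro n
  induction n with
  | zero =>
    intro x
    have : CohAff.inter (X := X.toPresheafedSpace.carrier) U x = U (x 0) :=
      le_antisymm (CohAff.inter_le U x 0) (CohAff.le_inter fun a => by rw [Fin.eq_zero a])
    rw [this]
    exact hU _
  | succ n ih =>
    intro x
    have : CohAff.inter (X := X.toPresheafedSpace.carrier) U x =
        U (x 0) ⊓ CohAff.inter (X := X.toPresheafedSpace.carrier) U (x ∘ Fin.succ) :=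
      le_antisymm (le_inf (CohAff.inter_le U x 0) (CohAff.inter_comp_le U x Fin.succ))
        (CohAff.le_inter fun a => by
          induction a using Fin.cases with
          | zero => exact inf_le_left
          | succ a => exact inf_le_right.trans (CohAff.inter_le _ _ a))
    rw [this]
    exact (hU _).inf (ih _)

theorem inter_preimage {n : ℕ} (x : Fin n → κ) :
    CohAff.inter (X := I.subscheme.toPresheafedSpace.carrier) (fun k => I.subschemeι ⁻¹ᵁ U k) x =
      I.subschemeι ⁻¹ᵁ CohAff.inter (X := X.toPresheafedSpace.carrier) U x := by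
  refine TopologicalSpace.Opens.ext (Set.ext fun p => ?_)
  rw [SetLike.mem_coe, CohAff.mem_inter]
  exact (CohAff.mem_inter (X := X.toPresheafedSpace.carrier) (U := U) (p := I.subschemeι p)).symm

theorem exists_primitive [X.IsSeparated] (hI : I ^ 2 = ⊥) (hU : ∀ k, IsAffineOpen (U k))
    (hcov : ⊤ ≤ iSup U) {n : ℕ} (h : Subsingleton (Coh.HH I.subscheme (conormal I) (n + 1)))
    (s : CohAff.Cochain (X := X.toPresheafedSpace.carrier) (ClSub.idealMod I).presheaf U (n + 1))
    (hs : CohAff.cd (ClSub.idealMod I).presheaf U (n + 1) s = 0) :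
    ∃ t, CohAff.cd (ClSub.idealMod I).presheaf U n t = s := by
  haveI : (ClSub.idealMod I).IsQuasicoherent := AmpleLib.isQCoh_idealMod I
  have hsq := sqZero_subschemeι I hI
  let V : κ → I.subscheme.Opens := fun k => I.subschemeι ⁻¹ᵁ U k
  let G := Coh.toAb (conormal I)
  have hle : ∀ {m : ℕ} (x : Fin m → κ),
      CohAff.inter (X := I.subscheme.toPresheafedSpace.carrier) V x ≤
        I.subschemeι ⁻¹ᵁ CohAff.inter (X := X.toPresheafedSpace.carrier) U x :=
    fun x => (inter_preimage I U x).le
  let s' : CohAff.Cochain (X := I.subscheme.toPresheafedSpace.carrier) G.obj V (n + 1) :=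
    fun x => CohAff.res (conormal I).presheaf (hle x) (θ I _ (s x))
  have hnat : ∀ {m : ℕ} (x : Fin (m + 2) → κ) (j : Fin (m + 2))
      (a : Γ(ClSub.idealMod I, CohAff.inter (X := X.toPresheafedSpace.carrier) U (x ∘ j.succAbove))),
      CohAff.res (conormal I).presheaf (CohAff.inter_comp_le V x j.succAbove)
        (CohAff.res (conormal I).presheaf (hle (x ∘ j.succAbove)) (θ I _ a)) =
      CohAff.res (conormal I).presheaf (hle x)
        (θ I _ (CohAff.res (ClSub.idealMod I).presheaf (CohAff.inter_comp_le U x j.succAbove) a)) :=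
    fun x j a => by
      rw [CohAff.res_res, show θ I _ (CohAff.res (ClSub.idealMod I).presheaf
        (CohAff.inter_comp_le U x j.succAbove) a) = _ from θ_res I (CohAff.inter_comp_le U x j.succAbove) a]
      exact (CohAff.res_res (conormal I).presheaf _ _ _).symm
  have hs' : CohAff.cd G.obj V (n + 1) s' = 0 := by
    funext x
    have hx := congrArg (fun c => CohAff.res (conormal I).presheaf (hle x) (θ I _ (c x))) hs
    simp only [CohAff.cd_apply, map_sum, map_zsmul, Pi.zero_apply, map_zero] at hx
    rw [CohAff.cd_apply, Pi.zero_apply]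
    refine Eq.trans (Finset.sum_congr rfl fun j _ => ?_) hx
    exact congrArg (((-1 : ℤ) ^ (j : ℕ)) • ·) (hnat x j _)
  haveI : I.subscheme.IsSeparated := ⟨by rw [← terminal.comp_from I.subschemeι]; infer_instance⟩
  have hcov' : ⨆ k, V k = ⊤ := by
    refine top_le_iff.mp fun p _ => ?_
    obtain ⟨k, hk⟩ := Opens.mem_iSup.1 (hcov (trivial : I.subschemeι p ∈ (⊤ : X.Opens)))
    exact Opens.mem_iSup.2 ⟨k, hk⟩
  have hVaff : ∀ {m : ℕ} (x : Fin (m + 1) → κ),
      (CohAff.affCov I.subscheme).mem (CohAff.inter V x) :=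
    fun x => isAffineOpen_inter V (fun k => (hU k).preimage I.subschemeι) x
  obtain ⟨t', ht'⟩ := CohAff.exists_cd_eq_of_toH_eq_zero hcov' hVaff
    (CohAff.good_affCov (conormal I)) (F := G) hs' (@Subsingleton.elim _ h _ _)
  have hex : ∀ y : Fin (n + 1) → κ, ∃ a : Γ(ClSub.idealMod I,
      CohAff.inter (X := X.toPresheafedSpace.carrier) U y),
      θ I _ a = CohAff.res (conormal I).presheaf (inter_preimage I U y).ge (t' y) :=
    fun y => (θ_bijective I hsq (isAffineOpen_inter U hU y)).2 _
  choose t ht using hex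
  refine ⟨t, funext fun x => (θ_bijective I hsq (isAffineOpen_inter U hU x)).1 ?_⟩
  have hinj : Function.Injective (CohAff.res (conormal I).presheaf (hle x)) := fun a b hab => by
    have := congrArg (CohAff.res (conormal I).presheaf (inter_preimage I U x).ge) hab
    rwa [CohAff.res_res, CohAff.res_res, CohAff.res_self, CohAff.res_self] at this
  refine hinj ?_
  rw [CohAff.cd_apply, map_sum, map_sum]
  refine Eq.trans ?_ (congrFun ht' x)
  rw [CohAff.cd_apply]
  refine Finset.sum_congr rfl fun j _ => ?_
  rw [map_zsmul, map_zsmul, ← hnat x j, ht, CohAff.res_res (conormal I).presheaf _ (hle _),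
    CohAff.res_self]
  rfl

end Groth.Agent.PicThick
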